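import Mathlib

/-!
# Unit vectors perpendicular to two given vectors (dot product on `κ → F`, `F` finite of odd order, `7 ≤ card κ`)

Used for CORE13 (S5679 + S5696), leaf G4.
-/

set_option autoImplicit false
set_option linter.unusedSectionVars false
set_option linter.unusedVariables false

namespace Cfsg.Agent.Lib.Helper5.F11.H24.FrCUnit

open Module Matrix

variable {κ : Type*} [Fintype κ] [DecidableEq κ] {F : Type*} [Field F]

/-- the dot product as a bilinear form -/
noncomputable def dotB (κ : Type*) [Fintype κ] [DecidableEq κ] (F : Type*) [Field F] :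
    LinearMap.BilinForm F (κ → F) :=
  Matrix.toBilin' (1 : Matrix κ κ F)

theorem dotB_apply (x y : κ → F) : dotB κ F x y = x ⬝ᵥ y := by
  unfold dotB
  rw [Matrix.toBilin'_apply', Matrix.one_mulVec]

theorem dotB_nondeg : (dotB κ F).Nondegenerate := by
  unfold dotB
  rw [Matrix.nondegenerate_toBilin'_iff]
  apply Matrix.nondegenerate_of_det_ne_zero
  rw [Matrix.det_one]
  exact one_ne_zero

/-- polarisation -/
theorem dot_eq_zero_of_all_sing (two : (2 : F) ≠ 0) (U : Submodule F (κ → F))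
    (h : ∀ u ∈ U, u ⬝ᵥ u = 0) : ∀ u ∈ U, ∀ u' ∈ U, u ⬝ᵥ u' = 0 := by
  intro u hu u' hu'
  have h1 := h (u + u') (U.add_mem hu hu')
  rw [add_dotProduct, dotProduct_add, dotProduct_add, h u hu, h u' hu', dotProduct_comm u' u] at h1
  have h2 : (2 : F) * (u ⬝ᵥ u') = 0 := by linear_combination h1
  exact (mul_eq_zero.mp h2).resolve_left two

/-- a totally isotropic subspace has at most half the dimension -/
theorem two_mul_finrank_le_of_isotropic (U : Submodule F (κ → F))
    (h : ∀ u ∈ U, ∀ u' ∈ U, u ⬝ᵥ u' = 0) : 2 * finrank F U ≤ Fintype.card κ := by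
  have h1 : U ≤ (dotB κ F).orthogonal U := by
    intro u hu
    rw [LinearMap.BilinForm.mem_orthogonal_iff]
    intro u' hu'
    show dotB κ F u' u = 0
    rw [dotB_apply]
    exact h u' hu' u hu
  have h2 := Submodule.finrank_mono h1
  rw [LinearMap.BilinForm.finrank_orthogonal dotB_nondeg, Module.finrank_fintype_fun_eq_card] at h2
  have h3 : finrank F U ≤ Fintype.card κ := by
    have := Submodule.finrank_le U
    rwa [Module.finrank_fintype_fun_eq_card] at this
  omega

/-- a hyperplane section loses at most one dimension -/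
theorem finrank_inf_ker_ge (v : κ → F) (U : Submodule F (κ → F)) :
    finrank F U ≤ finrank F ↥(U ⊓ LinearMap.ker (dotB κ F v)) + 1 := by
  have h1 := Submodule.finrank_sup_add_finrank_inf_eq U (LinearMap.ker (dotB κ F v))
  have h2 := LinearMap.finrank_range_add_finrank_ker (dotB κ F v)
  have h3 : finrank F (LinearMap.range (dotB κ F v)) ≤ 1 := by
    have := Submodule.finrank_le (LinearMap.range (dotB κ F v))
    rwa [Module.finrank_self] at this
  have h4 : finrank F ↥(U ⊔ LinearMap.ker (dotB κ F v)) ≤ finrank F (κ → F) :=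
    Submodule.finrank_le _
  omega

/-- a subspace of dimension more than half contains a vector of non-zero norm -/
theorem exists_nonsing (two : (2 : F) ≠ 0) (U : Submodule F (κ → F))
    (hU : Fintype.card κ < 2 * finrank F U) : ∃ w ∈ U, w ⬝ᵥ w ≠ 0 := by
  by_contra hcon
  push Not at hcon
  have := two_mul_finrank_le_of_isotropic U (dot_eq_zero_of_all_sing two U hcon)
  omega

/-- a binary diagonal form with non-zero coefficients represents `1` over a finite field of odd order -/
theorem exists_binary_one [Fintype F] (hodd : Fintype.card F % 2 = 1) {α β : F} (hα : α ≠ 0) (hβ : β ≠ 0) :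
    ∃ s t : F, α * s ^ 2 + β * t ^ 2 = 1 := by
  classical
  have hf : (Polynomial.C α * Polynomial.X ^ 2 : Polynomial F).degree = 2 :=
    Polynomial.degree_C_mul_X_pow 2 hα
  have hg : (Polynomial.C β * Polynomial.X ^ 2 - Polynomial.C 1 : Polynomial F).degree = 2 := by
    rw [Polynomial.degree_sub_eq_left_of_degree_lt]
    · exact Polynomial.degree_C_mul_X_pow 2 hβ
    · rw [Polynomial.degree_C_mul_X_pow 2 hβ]
      exact lt_of_le_of_lt Polynomial.degree_C_le (by norm_num)
  obtain ⟨s, t, hst⟩ := FiniteField.exists_root_sum_quadratic hf hg hodd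
  refine ⟨s, t, ?_⟩
  simp only [Polynomial.eval_mul, Polynomial.eval_C, Polynomial.eval_pow, Polynomial.eval_X,
    Polynomial.eval_sub] at hst
  linear_combination hst

/-- LEMMA U: a unit vector perpendicular to two given vectors -/
theorem exists_unit_perp [Fintype F] (hodd : Fintype.card F % 2 = 1) (two : (2 : F) ≠ 0)
    (hκ : 7 ≤ Fintype.card κ) (z v : κ → F) :
    ∃ w : κ → F, w ⬝ᵥ w = 1 ∧ z ⬝ᵥ w = 0 ∧ v ⬝ᵥ w = 0 := by
  classical
  set U₀ : Submodule F (κ → F) :=
    ((⊤ : Submodule F (κ → F)) ⊓ LinearMap.ker (dotB κ F z)) ⊓ LinearMap.ker (dotB κ F v) with hU₀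
  have hmem₀ : ∀ y : κ → F, y ∈ U₀ → z ⬝ᵥ y = 0 ∧ v ⬝ᵥ y = 0 := by
    intro y hy
    rw [hU₀] at hy
    simp only [Submodule.mem_inf, Submodule.mem_top, true_and, LinearMap.mem_ker, dotB_apply] at hy
    exact hy
  have ht : finrank F ↥(⊤ : Submodule F (κ → F)) = Fintype.card κ := by
    rw [finrank_top, Module.finrank_fintype_fun_eq_card]
  have hd₀ : Fintype.card κ ≤ finrank F U₀ + 2 := by
    have h0 := finrank_inf_ker_ge z (⊤ : Submodule F (κ → F))
    have h1 := finrank_inf_ker_ge v ((⊤ : Submodule F (κ → F)) ⊓ LinearMap.ker (dotB κ F z))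
    rw [← hU₀] at h1
    omega
  obtain ⟨w₀, hw₀U, hw₀⟩ := exists_nonsing two U₀ (by omega)
  set U₁ : Submodule F (κ → F) := U₀ ⊓ LinearMap.ker (dotB κ F w₀) with hU₁
  have hd₁ : Fintype.card κ ≤ finrank F U₁ + 3 := by
    have h1 := finrank_inf_ker_ge w₀ U₀
    rw [← hU₁] at h1
    omega
  obtain ⟨w₁, hw₁U, hw₁⟩ := exists_nonsing two U₁ (by omega)
  have hw₁U₀ : w₁ ∈ U₀ := hw₁U.1
  have hw₀₁ : w₀ ⬝ᵥ w₁ = 0 := by
    have h1 : w₁ ∈ LinearMap.ker (dotB κ F w₀) := hw₁U.2
    rwa [LinearMap.mem_ker, dotB_apply] at h1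
  obtain ⟨s, t, hst⟩ := exists_binary_one hodd hw₀ hw₁
  obtain ⟨hz0, hv0⟩ := hmem₀ w₀ hw₀U
  obtain ⟨hz1, hv1⟩ := hmem₀ w₁ hw₁U₀
  refine ⟨s • w₀ + t • w₁, ?_, ?_, ?_⟩
  · have hw₁₀ : w₁ ⬝ᵥ w₀ = 0 := by rw [dotProduct_comm]; exact hw₀₁
    simp only [add_dotProduct, dotProduct_add, smul_dotProduct, dotProduct_smul, hw₀₁, hw₁₀,
      smul_eq_mul]
    linear_combination hst
  · rw [dotProduct_add, dotProduct_smul, dotProduct_smul, hz0, hz1]
    simp
  · rw [dotProduct_add, dotProduct_smul, dotProduct_smul, hv0, hv1]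
    simp

end Cfsg.Agent.Lib.Helper5.F11.H24.FrCUnit
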